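import Mathlib
import Cfsg.Agent.Lib.Classical.A8Subgroups
import Cfsg.Agent.Lib.FourOrbit.Basic

/-!
Pairs of quadratic forms over the field of two elements without common zero, and their groups of
isometries.
-/

set_option autoImplicit false
set_option linter.style.haveILetI false
set_option linter.unusedSectionVars false

namespace CfsgLib.ThreeInvolutions

variable {W : Type*} [AddCommGroup W] [Finite W] {M : Type*} [AddCommGroup M]

/-- The defining identity of a quadratic map between groups of exponent two. -/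
def IsQuad (q : W → M) : Prop :=
  q 0 = 0 ∧ ∀ x y z, q (x + y + z) + q (x + y) + q (x + z) + q (y + z) + q x + q y + q z = 0

variable {q : W → M}

theorem IsQuad.comp (h : IsQuad q) {M' : Type*} [AddCommGroup M'] (l : M →+ M') :
    IsQuad (fun w => l (q w)) := by
  refine ⟨by simp only [h.1, map_zero], fun x y z => ?_⟩
  have := congrArg l (h.2 x y z)
  simpa only [map_add, map_zero] using this

/-- The polar form. -/
def polarHom (h : IsQuad q) (h2 : ∀ m : M, m + m = 0) (x : W) : W →+ M :=
  AddMonoidHom.mk' (fun y => q (x + y) + q x + q y) fun y z => by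
    have e := h.2 x y z
    have hn : ∀ m : M, -m = m := fun m => neg_eq_of_add_eq_zero_left (h2 m)
    rw [← add_assoc] at *
    calc q (x + y + z) + q x + q (y + z)
        = -(q (x + y) + q (x + z) + q y + q z) := by
          rw [eq_neg_iff_add_eq_zero, ← e]
          abel
      _ = q (x + y) + q (x + z) + q y + q z := hn _
      _ = q (x + y) + q x + q y + (q (x + z) + q x + q z) - (q x + q x) := by abel
      _ = _ := by rw [h2, sub_zero]

theorem polarHom_apply (h : IsQuad q) (h2 : ∀ m : M, m + m = 0) (x y : W) :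
    polarHom h h2 x y = q (x + y) + q x + q y := rfl

theorem card_le_mul_ker {N : Type*} [AddCommGroup N] [Finite N] (f : W →+ N) :
    Nat.card W ≤ Nat.card N * Nat.card f.ker := by
  have h1 := f.ker.card_eq_card_quotient_mul_card_addSubgroup
  have h2 : Nat.card (W ⧸ f.ker) ≤ Nat.card N :=
    Nat.card_le_card_of_injective _ (QuotientAddGroup.kerLift_injective f)
  rw [h1]
  exact Nat.mul_le_mul_right _ h2

theorem exists_ker_avoiding {N : Type*} [AddCommGroup N] (f : W →+ N) (S : Finset W)
    (h : S.card < Nat.card f.ker) : ∃ y, f y = 0 ∧ y ∉ S := by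
  classical
  haveI := Fintype.ofFinite W
  by_contra hcon
  push Not at hcon
  have hsub : (Finset.univ.filter fun y => f y = 0) ⊆ S := fun y hy =>
    hcon y (Finset.mem_filter.mp hy).2
  have h1 : Nat.card f.ker = (Finset.univ.filter fun y => f y = 0).card := by
    rw [Nat.card_eq_fintype_card, ← Fintype.card_subtype]
    exact Fintype.card_congr (Equiv.subtypeEquivRight fun y => Iff.rfl)
  have := Finset.card_le_card hsub
  omega

theorem exists_of_card_lt (S : Finset W) (h : S.card < Nat.card W) : ∃ y, y ∉ S := by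
  classical
  obtain ⟨y, -, hy⟩ := exists_ker_avoiding (0 : W →+ W) S (by
    rwa [AddMonoidHom.ker_zero, Nat.card_congr AddSubgroup.topEquiv.toEquiv])
  exact ⟨y, hy⟩

variable (hW : ∀ x : W, x + x = 0)
include hW

/-- A form with at most one zero lives in dimension at most three. -/
theorem card_le_eight {f : W → ZMod 2} (hf : IsQuad f) (w₀ : W)
    (hv : ∀ w, w ≠ 0 → w ≠ w₀ → f w = 1) : Nat.card W ≤ 8 := by
  classical
  by_contra hc
  obtain ⟨x, hx⟩ := exists_of_card_lt {0, w₀} (lt_of_le_of_lt Finset.card_le_two (by omega))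
  simp only [Finset.mem_insert, Finset.mem_singleton, not_or] at hx
  set B := polarHom hf (by decide) x with hB
  have hk := card_le_mul_ker B
  rw [Nat.card_zmod] at hk
  obtain ⟨y, hy0, hy⟩ := exists_ker_avoiding B {0, x, w₀, x + w₀}
    (lt_of_le_of_lt Finset.card_le_four (by omega))
  simp only [Finset.mem_insert, Finset.mem_singleton, not_or] at hy
  rw [polarHom_apply, hv x hx.1 hx.2, hv y hy.1 hy.2.2.1, hv (x + y) ?_ ?_] at hy0
  · exact absurd hy0 (by decide)
  · intro e
    exact hy.2.1 (by rw [← add_zero x, ← e, ← add_assoc, hW, zero_add])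
  · intro e
    exact hy.2.2.2 (by rw [← e, ← add_assoc, hW, zero_add])

/-- An anisotropic form lives in dimension at most two. -/
theorem card_le_four {f : W → ZMod 2} (hf : IsQuad f) (hv : ∀ w, w ≠ 0 → f w = 1) :
    Nat.card W ≤ 4 := by
  classical
  by_contra hc
  obtain ⟨x, hx⟩ := exists_of_card_lt ({0} : Finset W) (by rw [Finset.card_singleton]; omega)
  rw [Finset.mem_singleton] at hx
  set B := polarHom hf (by decide) x with hB
  have hk := card_le_mul_ker B
  rw [Nat.card_zmod] at hk
  obtain ⟨y, hy0, hy⟩ := exists_ker_avoiding B {0, x}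
    (lt_of_le_of_lt Finset.card_le_two (by omega))
  simp only [Finset.mem_insert, Finset.mem_singleton, not_or] at hy
  rw [polarHom_apply, hv x hx, hv y hy.1, hv (x + y) ?_] at hy0
  · exact absurd hy0 (by decide)
  · intro e
    exact hy.2 (by rw [← add_zero x, ← e, ← add_assoc, hW, zero_add])

/-- An alternating form on a space of dimension five is degenerate. -/
theorem exists_radical (hc1 : 16 < Nat.card W) (hc2 : Nat.card W < 64) (B : W → W →+ ZMod 2)
    (hsymm : ∀ x y, B x y = B y x) (halt : ∀ x, B x x = 0) : ∃ w, w ≠ 0 ∧ B w = 0 := by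
  classical
  by_contra hcon
  push Not at hcon
  have hpick : ∀ w : W, w ≠ 0 → ∃ t, B w t = 1 := by
    intro w hw
    obtain ⟨t, ht⟩ := DFunLike.ne_iff.mp (hcon w hw)
    refine ⟨t, ?_⟩
    have h01 : ∀ c : ZMod 2, c ≠ 0 → c = 1 := by decide
    exact h01 _ ht
  have hadd : ∀ x y z, B (x + y) z = B x z + B y z := fun x y z => by
    rw [hsymm, map_add, hsymm z x, hsymm z y]
  obtain ⟨x, hx⟩ := exists_of_card_lt ({0} : Finset W) (by rw [Finset.card_singleton]; omega)
  rw [Finset.mem_singleton] at hx
  obtain ⟨y, hxy⟩ := hpick x hx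
  let p2 : W → W := fun t => t + (if B x t = 1 then y else 0) + (if B y t = 1 then x else 0)
  have h01' : ∀ c : ZMod 2, c = 0 ∨ c = 1 := by decide
  have hp2 : ∀ t, B x (p2 t) = 0 ∧ B y (p2 t) = 0 := by
    intro t
    have hyx : B y x = 1 := by rw [hsymm]; exact hxy
    simp only [p2]
    rcases h01' (B x t) with a | a <;> rcases h01' (B y t) with b | b <;>
      simp [a, b, map_add, hxy, hyx, halt] <;> decide
  obtain ⟨u, hu, hu0⟩ : ∃ u, ((B x).prod (B y)) u = 0 ∧ u ≠ 0 := by
    have h := card_le_mul_ker ((B x).prod (B y))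
    rw [Nat.card_prod, Nat.card_zmod] at h
    obtain ⟨u, h1, h2⟩ := exists_ker_avoiding ((B x).prod (B y)) {0}
      (by rw [Finset.card_singleton]; omega)
    exact ⟨u, h1, fun e => h2 (by simp [e])⟩
  simp only [AddMonoidHom.prod_apply, Prod.mk_eq_zero] at hu
  obtain ⟨v₀, huv₀⟩ := hpick u hu0
  set v := p2 v₀ with hv
  have huv : B u v = 1 := by
    have hux : B u x = 0 := by rw [hsymm]; exact hu.1
    have huy : B u y = 0 := by rw [hsymm]; exact hu.2
    simp only [hv, p2, map_add]
    split_ifs <;> simp [huv₀, hux, huy]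
  obtain ⟨hxv, hyv⟩ := hp2 v₀
  rw [← hv] at hxv hyv
  let F : W →+ (ZMod 2 × ZMod 2) × (ZMod 2 × ZMod 2) :=
    ((B x).prod (B y)).prod ((B u).prod (B v))
  obtain ⟨w, hw, hw0⟩ : ∃ w, F w = 0 ∧ w ≠ 0 := by
    have h := card_le_mul_ker F
    simp only [Nat.card_prod, Nat.card_zmod] at h
    obtain ⟨u, h1, h2⟩ := exists_ker_avoiding F {0} (by rw [Finset.card_singleton]; omega)
    exact ⟨u, h1, fun e => h2 (by simp [e])⟩
  simp only [F, AddMonoidHom.prod_apply, Prod.mk_eq_zero] at hw
  obtain ⟨⟨hxw, hyw⟩, huw, hvw⟩ := hw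
  obtain ⟨s₀, hws₀⟩ := hpick w hw0
  set t := p2 s₀ with ht
  set s := t + (if B u t = 1 then v else 0) + (if B v t = 1 then u else 0) with hs
  have hwx : B w x = 0 := by rw [hsymm]; exact hxw
  have hwy : B w y = 0 := by rw [hsymm]; exact hyw
  have hwu : B w u = 0 := by rw [hsymm]; exact huw
  have hwv : B w v = 0 := by rw [hsymm]; exact hvw
  have hws : B w s = 1 := by
    simp only [hs, ht, p2, map_add]
    split_ifs <;> simp [hws₀, hwx, hwy, hwu, hwv]
  have hxs : B x s = 0 := by
    have := (hp2 s₀).1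
    rw [← ht] at this
    simp only [hs, map_add]
    split_ifs <;> simp [this, hxv, hu.1]
  have hys : B y s = 0 := by
    have := (hp2 s₀).2
    rw [← ht] at this
    simp only [hs, map_add]
    split_ifs <;> simp [this, hyv, hu.2]
  have hvu : B v u = 1 := by rw [hsymm]; exact huv
  have hus : B u s = 0 := by
    simp only [hs, map_add]
    rcases h01' (B u t) with a | a <;> rcases h01' (B v t) with b | b <;>
      simp [a, b, huv, halt] <;> decide
  have hvs : B v s = 0 := by
    simp only [hs, map_add]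
    rcases h01' (B u t) with a | a <;> rcases h01' (B v t) with b | b <;>
      simp [a, b, hvu, halt] <;> decide
  let T : W →+ ((ZMod 2 × ZMod 2) × (ZMod 2 × ZMod 2)) × (ZMod 2 × ZMod 2) :=
    F.prod ((B w).prod (B s))
  have hyx : B y x = 1 := by rw [hsymm]; exact hxy
  have hsx : B s x = 0 := by rw [hsymm]; exact hxs
  have hsy : B s y = 0 := by rw [hsymm]; exact hys
  have hsu : B s u = 0 := by rw [hsymm]; exact hus
  have hsv : B s v = 0 := by rw [hsymm]; exact hvs
  have hsw : B s w = 1 := by rw [hsymm]; exact hws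
  have hux : B u x = 0 := by rw [hsymm]; exact hu.1
  have huy : B u y = 0 := by rw [hsymm]; exact hu.2
  have hvx : B v x = 0 := by rw [hsymm]; exact hxv
  have hvy : B v y = 0 := by rw [hsymm]; exact hyv
  have hsurj : Function.Surjective T := by
    rintro ⟨⟨⟨a, b⟩, c, d⟩, e, f⟩
    refine ⟨(if b = 1 then x else 0) + (if a = 1 then y else 0) + (if d = 1 then u else 0) +
      (if c = 1 then v else 0) + (if f = 1 then w else 0) + (if e = 1 then s else 0), ?_⟩
    have hh : ∀ (c : ZMod 2) (φ : W →+ ZMod 2) (z : W), φ (if c = 1 then z else 0) = c * φ z := by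
      intro c φ z
      rcases h01' c with rfl | rfl <;> simp
    simp only [T, F, AddMonoidHom.prod_apply, map_add, hh, halt, hxy, hyx, hu.1, hu.2, hux, huy,
      huv, hvu, hxv, hyv, hvx, hvy, hxw, hyw, huw, hvw, hwx, hwy, hwu, hwv, hxs, hys, hus, hvs,
      hsx, hsy, hsu, hsv, hws, hsw, mul_one, mul_zero]
    simp only [Prod.mk_add_mk, add_zero, zero_add]
  have h := Nat.card_le_card_of_surjective _ hsurj
  simp only [Nat.card_prod, Nat.card_zmod] at h
  omega

/-- Two forms without common zero live in dimension at most four. -/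
theorem card_le_sixteen {q : W → ZMod 2 × ZMod 2} (hq : IsQuad q) (hq0 : ∀ w, q w = 0 → w = 0) :
    Nat.card W ≤ 16 := by
  classical
  by_contra hc
  have h2 : ∀ m : ZMod 2 × ZMod 2, m + m = 0 := by decide
  have hker : ∀ x : W, x ≠ 0 → Nat.card (polarHom hq h2 x).ker ≤ 8 := by
    intro x hx
    have hex : ∀ a : ZMod 2 × ZMod 2, a ≠ 0 → ∃ i : Fin 3, ∀ b : ZMod 2 × ZMod 2, b ≠ 0 → b ≠ a →
        (![b.1, b.2, b.1 + b.2] : Fin 3 → ZMod 2) i = 1 := by decide
    obtain ⟨i, hi⟩ := hex _ (fun e => hx (hq0 x e))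
    let U := (polarHom hq h2 x).ker
    let l : Fin 3 → (ZMod 2 × ZMod 2 →+ ZMod 2) :=
      ![AddMonoidHom.fst _ _, AddMonoidHom.snd _ _, AddMonoidHom.fst _ _ + AddMonoidHom.snd _ _]
    have hl : ∀ (i : Fin 3) (b : ZMod 2 × ZMod 2),
        l i b = (![b.1, b.2, b.1 + b.2] : Fin 3 → ZMod 2) i := by
      intro i b; fin_cases i <;> rfl
    refine card_le_eight (W := U) (fun u => Subtype.ext (hW u)) (f := fun u => l i (q u))
      ⟨by simp [hq.1], fun a b c => (hq.comp (l i)).2 a b c⟩
      (if h : x ∈ U then ⟨x, h⟩ else 0) ?_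
    intro u hu0 hu1
    rw [hl]
    have hu0' : (u : W) ≠ 0 := fun e => hu0 (Subtype.ext e)
    have hux : (u : W) ≠ x := fun e => hu1 (by
      rw [dif_pos (e ▸ u.2)]; exact Subtype.ext e)
    refine hi _ (fun e => hu0' (hq0 _ e)) fun e => ?_
    have hu := u.2
    simp only [U, AddMonoidHom.mem_ker, polarHom_apply, e, add_assoc, h2, add_zero] at hu
    exact hux (by rw [← add_zero x, ← hq0 _ hu, ← add_assoc, hW, zero_add])
  obtain ⟨x, hx⟩ := exists_of_card_lt ({0} : Finset W) (by rw [Finset.card_singleton]; omega)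
  rw [Finset.mem_singleton] at hx
  have hc4 : Nat.card (ZMod 2 × ZMod 2) = 4 := by rw [Nat.card_prod, Nat.card_zmod]
  have hcW := card_le_mul_ker (polarHom hq h2 x)
  rw [hc4] at hcW
  have hk := hker x hx
  let B : W → W →+ ZMod 2 := fun a => (AddMonoidHom.fst _ _).comp (polarHom hq h2 a)
  obtain ⟨w, hw, hBw⟩ := exists_radical hW (by omega) (by omega) B
    (fun a b => by
      simp only [B, AddMonoidHom.comp_apply, polarHom_apply, AddMonoidHom.coe_fst]
      rw [add_comm b a]
      congr 1
      abel)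
    (fun a => by
      simp only [B, AddMonoidHom.comp_apply, polarHom_apply, hW, hq.1, zero_add, h2,
        AddMonoidHom.coe_fst, Prod.fst_zero])
  have h3 := card_le_mul_ker ((AddMonoidHom.snd _ _).comp (polarHom hq h2 w))
  rw [Nat.card_zmod] at h3
  have hle : ((AddMonoidHom.snd _ _).comp (polarHom hq h2 w)).ker ≤ (polarHom hq h2 w).ker :=
    fun a ha => Prod.ext (DFunLike.congr_fun hBw a) ha
  have := Nat.card_mono (Set.toFinite _) (show (_ : Set W) ⊆ _ from hle)
  have := hker w hw
  simp only [SetLike.coe_sort_coe] at *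
  omega

end CfsgLib.ThreeInvolutions
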