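import Cfsg.Agent.Lib.ThreeInvolutions.Forms

/-!
The isometry group of a pair of quadratic forms over the field of two elements without common zero
is solvable.
-/

set_option autoImplicit false
set_option linter.style.haveILetI false
set_option linter.unusedSectionVars false

namespace CfsgLib.ThreeInvolutions

variable {W : Type*} [AddCommGroup W] [Finite W]

theorem fixed_of_pow {σ : Equiv.Perm W} {s k : ℕ} (hσ : σ ^ s = 1) (hcop : k.Coprime s) {x : W}
    (h : (σ ^ k) x = x) : σ x = x := by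
  have h1 : Function.IsPeriodicPt σ k x := by
    show (⇑σ)^[k] x = x
    rw [← Equiv.Perm.coe_pow]; exact h
  have h2 : Function.IsPeriodicPt σ s x := by
    show (⇑σ)^[s] x = x
    rw [← Equiv.Perm.coe_pow, hσ]; rfl
  have h3 := h1.gcd h2
  rw [hcop.gcd_eq_one] at h3
  exact h3

theorem orbit_injective {σ : Equiv.Perm W} {s : ℕ} (hs : s.Prime) (hσ : σ ^ s = 1) {x : W}
    (hx : σ x ≠ x) : Function.Injective (fun i : Fin s => (σ ^ (i : ℕ)) x) := by
  intro i j hij
  by_contra hne
  wlog hlt : (i : ℕ) < j generalizing i j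
  · exact this (i := j) (j := i) hij.symm (Ne.symm hne) (by omega)
  refine hx (fixed_of_pow hσ (k := j - i) ?_ ((σ ^ (i : ℕ)).injective ?_))
  · exact ((hs.coprime_iff_not_dvd).mpr fun hd => by
      have := Nat.le_of_dvd (by omega) hd
      omega).symm
  · rw [← Equiv.Perm.mul_apply, ← pow_add, Nat.add_sub_cancel' hlt.le]
    exact hij.symm

theorem card_modEq_fixed {σ : Equiv.Perm W} {s : ℕ} (hs : s.Prime) (hσ : σ ^ s = 1)
    (A : AddSubgroup W) (hA : ∀ a ∈ A, σ a ∈ A) :
    Nat.card A ≡ Nat.card {a : ↥A // σ a = a} [MOD s] := by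
  classical
  haveI := Fact.mk hs
  haveI := Fintype.ofFinite A
  let f : Function.End ↥A := fun a => ⟨σ a, hA a a.2⟩
  have hpow : ∀ n, ∀ a : ↥A, ((f ^ n) a : W) = (σ ^ n) a := by
    intro n
    induction n with
    | zero => intro a; rfl
    | succ n ih =>
      intro a
      rw [pow_succ', pow_succ']
      show σ ((f ^ n) a : W) = σ ((σ ^ n) a)
      rw [ih]
  have hf : f ^ s ^ 1 = 1 := by
    funext a
    refine Subtype.ext ?_
    rw [pow_one, hpow, hσ]
    rfl
  have h := Equiv.Perm.card_fixedPoints_modEq hf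
  rw [Nat.card_eq_fintype_card, Nat.card_eq_fintype_card]
  refine h.trans (congrArg (· % s) ?_)
  exact Fintype.card_congr (Equiv.subtypeEquivRight fun a =>
    ⟨fun e => congrArg Subtype.val e, fun e => Subtype.ext e⟩)

theorem card_two_pow (hW : ∀ x : W, x + x = 0) : ∃ n, Nat.card W = 2 ^ n := by
  haveI : Fact (Nat.Prime 2) := ⟨Nat.prime_two⟩
  have h : IsPGroup 2 (Multiplicative W) := fun x => ⟨1, by rw [pow_one, pow_two]; exact hW x⟩
  obtain ⟨n, hn⟩ := IsPGroup.iff_card.mp h
  exact ⟨n, (Nat.card_congr Multiplicative.toAdd).symm.trans hn⟩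

set_option synthInstance.maxSize 4000 in
theorem orbit_cases : ∀ n < 5, ∀ i < n, ∀ s < 16, (2 ^ n - 2 ^ i) % s = 0 → s = 2 ∨ s = 3 ∨
    (s = 5 ∧ n = 4 ∧ i = 0) ∨ (s = 7 ∧ ((n = 4 ∧ i = 1) ∨ (n = 3 ∧ i = 0))) ∨
    s ∈ [0, 1, 4, 6, 8, 9, 10, 12, 14, 15] := by
  decide

variable (hW : ∀ x : W, x + x = 0) {q : W → ZMod 2 × ZMod 2} (hq : IsQuad q)
  (hq0 : ∀ w, q w = 0 → w = 0)
include hW hq hq0

theorem exists_l (b c : ZMod 2 × ZMod 2) (hb : b ≠ 0) (hc : c ≠ 0) :
    ∃ l : ZMod 2 × ZMod 2 →+ ZMod 2, l b = 1 ∧ l c = 1 := by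
  have h : ∀ b c : ZMod 2 × ZMod 2, b ≠ 0 → c ≠ 0 →
      (b.1 = 1 ∧ c.1 = 1) ∨ (b.2 = 1 ∧ c.2 = 1) ∨ (b.1 + b.2 = 1 ∧ c.1 + c.2 = 1) := by decide
  rcases h b c hb hc with h | h | h
  · exact ⟨AddMonoidHom.fst _ _, h⟩
  · exact ⟨AddMonoidHom.snd _ _, h⟩
  · exact ⟨AddMonoidHom.fst _ _ + AddMonoidHom.snd _ _, h⟩

/-- An element of order seven does not preserve the forms. -/
theorem no_seven {σ : Equiv.Perm W} (hadd : ∀ x y, σ (x + y) = σ x + σ y) (hσq : ∀ x, q (σ x) = q x)
    (hσ : σ ^ 7 = 1)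
    (hF : (Nat.card W = 16 ∧ Nat.card {a : W // σ a = a} = 2) ∨
      (Nat.card W = 8 ∧ Nat.card {a : W // σ a = a} = 1)) : False := by
  classical
  haveI := Fintype.ofFinite W
  have h70 : σ 0 = 0 := by
    have := hadd 0 0
    rw [add_zero] at this
    exact left_eq_add.mp this
  have hqpow : ∀ (n : ℕ) x, q ((σ ^ n) x) = q x := by
    intro n
    induction n with
    | zero => intro x; rfl
    | succ n ih => intro x; rw [pow_succ', Equiv.Perm.mul_apply, hσq, ih]
  have haddpow : ∀ (n : ℕ) x y, (σ ^ n) (x + y) = (σ ^ n) x + (σ ^ n) y := by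
    intro n
    induction n with
    | zero => intro x y; rfl
    | succ n ih => intro x y; simp only [pow_succ', Equiv.Perm.mul_apply, ih, hadd]
  set Fix : Finset W := Finset.univ.filter fun a => σ a = a with hFix
  have hFc : Fix.card = Nat.card {a : W // σ a = a} := by
    rw [Nat.card_eq_fintype_card, Fintype.card_subtype]
  have h0F : (0 : W) ∈ Fix := by simp [hFix, h70]
  have hWc : Nat.card W = Fintype.card W := Nat.card_eq_fintype_card
  obtain ⟨x, hx⟩ : ∃ x, x ∉ Fix := exists_of_card_lt Fix (by rcases hF with h | h <;> omega)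
  have hσx : σ x ≠ x := fun e => hx (by simp [hFix, e])
  have hinj := orbit_injective (by norm_num) hσ hσx
  set O := Finset.univ.image (fun i : Fin 7 => (σ ^ (i : ℕ)) x) with hO
  have hOc : O.card = 7 := by rw [hO, Finset.card_image_of_injective _ hinj]; simp
  have hmove : ∀ i : ℕ, (σ ^ i) x ∉ Fix := fun i h => hσx ((σ ^ i).injective (by
    rw [← Equiv.Perm.mul_apply, ← pow_succ, pow_succ', Equiv.Perm.mul_apply]
    exact (Finset.mem_filter.mp h).2))
  have hOF : ∀ w ∈ O, w ∉ Fix ∧ q w = q x := by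
    intro w hw
    obtain ⟨i, -, rfl⟩ := Finset.mem_image.mp hw
    exact ⟨hmove _, hqpow _ _⟩
  have hx0 : q x ≠ 0 := fun e => hx (hq0 x e ▸ h0F)
  rcases hF with ⟨h16, h2⟩ | ⟨h8, h1⟩
  · obtain ⟨w₀, hw₀F, hw₀⟩ := Finset.exists_mem_ne (by omega : 1 < Fix.card) 0
    have hFeq : Fix = {0, w₀} := (Finset.eq_of_subset_of_card_le
      (fun a ha => by rcases Finset.mem_insert.mp ha with rfl | ha
                      · exact h0F
                      · exact Finset.mem_singleton.mp ha ▸ hw₀F)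
      (by rw [Finset.card_pair hw₀.symm]; omega)).symm
    have hσw₀ : σ w₀ = w₀ := (Finset.mem_filter.mp hw₀F).2
    set O' := O.image (fun w => w + w₀) with hO'
    have hO'c : O'.card = 7 := by
      rw [hO', Finset.card_image_of_injective _ (fun a b h => add_right_cancel h)]; exact hOc
    have hO'F : ∀ w ∈ O', w ∉ Fix ∧ q w = q (x + w₀) := by
      intro w hw
      obtain ⟨v, hv, rfl⟩ := Finset.mem_image.mp hw
      obtain ⟨i, -, rfl⟩ := Finset.mem_image.mp hv
      have hpw : (σ ^ (i : ℕ)) w₀ = w₀ := by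
        have : ∀ n : ℕ, (σ ^ n) w₀ = w₀ := fun n => by
          induction n with
          | zero => rfl
          | succ n ih => rw [pow_succ', Equiv.Perm.mul_apply, ih, hσw₀]
        exact this _
      refine ⟨fun h => hmove i ?_, ?_⟩
      · simp only [hFix, Finset.mem_filter, Finset.mem_univ, true_and] at h ⊢
        rw [hadd, hσw₀] at h
        exact add_right_cancel h
      · show q ((σ ^ (i : ℕ)) x + w₀) = q (x + w₀)
        conv_lhs => rw [← hpw, ← haddpow]
        exact hqpow _ _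
    have hdisj : Disjoint O O' := by
      rw [Finset.disjoint_left]
      intro w hw hw'
      obtain ⟨v, hv, hvw⟩ := Finset.mem_image.mp hw'
      obtain ⟨i, -, rfl⟩ := Finset.mem_image.mp hv
      obtain ⟨j, -, rfl⟩ := Finset.mem_image.mp hw
      -- `σ^k` would be a translation on the orbit
      obtain ⟨k, hk⟩ : ∃ k : ℕ, (σ ^ k) x = x + w₀ := ⟨(7 - (i : ℕ)) + j, by
        have e : (σ ^ (7 - (i : ℕ))) ((σ ^ (i : ℕ)) x) = x := by
          rw [← Equiv.Perm.mul_apply, ← pow_add, Nat.sub_add_cancel i.2.le, hσ]; rfl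
        have hpw : ∀ n : ℕ, (σ ^ n) w₀ = w₀ := fun n => by
          induction n with
          | zero => rfl
          | succ n ih => rw [pow_succ', Equiv.Perm.mul_apply, ih, hσw₀]
        rw [pow_add, Equiv.Perm.mul_apply, ← hvw, haddpow, e, hpw]⟩
      have hpw : (σ ^ k) w₀ = w₀ := by
        have : ∀ n : ℕ, (σ ^ n) w₀ = w₀ := fun n => by
          induction n with
          | zero => rfl
          | succ n ih => rw [pow_succ', Equiv.Perm.mul_apply, ih, hσw₀]
        exact this _
      by_cases hk7 : 7 ∣ k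
      · obtain ⟨m, rfl⟩ := hk7
        rw [pow_mul, hσ, one_pow] at hk
        exact hw₀ (left_eq_add.mp hk)
      · refine hσx (fixed_of_pow hσ (k := 2 * k) ?_ ?_)
        · refine ((Nat.Prime.coprime_iff_not_dvd (by norm_num)).mpr fun hd => ?_).symm
          exact hk7 ((Nat.Coprime.dvd_mul_left (by norm_num)).mp hd)
        · rw [two_mul, pow_add, Equiv.Perm.mul_apply, hk, haddpow, hk, hpw, add_assoc, hW, add_zero]
    have hall : Finset.univ = Fix ∪ O ∪ O' := (Finset.eq_univ_of_card _ (by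
      rw [Finset.card_union_of_disjoint, Finset.card_union_of_disjoint]
      · omega
      · exact Finset.disjoint_right.mpr fun w hw => (hOF w hw).1
      · rw [Finset.disjoint_union_left]
        exact ⟨Finset.disjoint_right.mpr fun w hw => (hO'F w hw).1, hdisj⟩)).symm
    have hx0' : q (x + w₀) ≠ 0 := fun e => by
      have := hq0 _ e
      have h' : x + w₀ ∈ Fix := this ▸ h0F
      simp only [hFix, Finset.mem_filter, Finset.mem_univ, true_and, hadd, hσw₀] at h'
      exact hσx (add_right_cancel h')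
    obtain ⟨l, hl1, hl2⟩ := exists_l hW hq hq0 _ _ hx0 hx0'
    have := card_le_eight hW (f := fun w => l (q w)) (hq.comp l) w₀ fun w hw hw' => by
      have hw2 : w ∈ Fix ∪ O ∪ O' := hall ▸ Finset.mem_univ w
      simp only [Finset.mem_union] at hw2
      rcases hw2 with (h | h) | h
      · rw [hFeq, Finset.mem_insert, Finset.mem_singleton] at h
        exact absurd h (not_or_intro hw hw')
      · exact (congrArg l (hOF w h).2).trans hl1
      · exact (congrArg l (hO'F w h).2).trans hl2
    omega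
  · have hall : Finset.univ = Fix ∪ O := (Finset.eq_univ_of_card _ (by
      rw [Finset.card_union_of_disjoint (Finset.disjoint_right.mpr fun w hw => (hOF w hw).1)]
      omega)).symm
    obtain ⟨l, hl, -⟩ := exists_l hW hq hq0 _ _ hx0 hx0
    have := card_le_four hW (f := fun w => l (q w)) (hq.comp l) fun w hw => by
      have hw2 : w ∈ Fix ∪ O := hall ▸ Finset.mem_univ w
      rcases Finset.mem_union.mp hw2 with h | h
      · obtain ⟨e, he⟩ := Finset.card_eq_one.mp (hFc.trans h1)
        rw [he, Finset.mem_singleton] at h h0F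
        exact absurd (h.trans h0F.symm) hw
      · exact (congrArg l (hOF w h).2).trans hl
    omega

/-- An element of order five forces at most twenty five isometries. -/
theorem card_le_of_five {σ : Equiv.Perm W} (hadd : ∀ x y, σ (x + y) = σ x + σ y)
    (hσq : ∀ x, q (σ x) = q x) (hσ : σ ^ 5 = 1) (hc : Nat.card W = 16)
    (hfix : ∀ a, σ a = a → a = 0) (L : Subgroup (Equiv.Perm W))
    (hLadd : ∀ g ∈ L, ∀ x y, g (x + y) = g x + g y) (hLq : ∀ g ∈ L, ∀ x, q (g x) = q x) :
    Nat.card L ≤ 25 := by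
  classical
  haveI := Fintype.ofFinite W
  obtain ⟨x, hx⟩ := exists_of_card_lt ({0} : Finset W) (by rw [Finset.card_singleton]; omega)
  rw [Finset.mem_singleton] at hx
  have hσx : σ x ≠ x := fun e => hx (hfix x e)
  let X : Fin 5 → W := fun i => (σ ^ (i : ℕ)) x
  have hXinj : Function.Injective X := orbit_injective (by norm_num) hσ hσx
  have hXs : ∀ i : Fin 5, σ (X i) = X (i + 1) := by
    intro i
    show σ ((σ ^ (i : ℕ)) x) = (σ ^ ((i + 1 : Fin 5) : ℕ)) x
    rw [← Equiv.Perm.mul_apply, ← pow_succ', Fin.val_add]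
    exact congrArg (fun g : Equiv.Perm W => g x) (pow_eq_pow_mod _ hσ)
  have h0 : σ 0 = 0 := by
    have := hadd 0 0
    rw [add_zero] at this
    exact left_eq_add.mp this
  have hneg : ∀ a : W, -a = a := fun a => neg_eq_of_add_eq_zero_left (hW a)
  have hsum : X 0 + X 1 + X 2 + X 3 + X 4 = 0 := hfix _ (by
    simp only [hadd, hXs]
    rw [show (0 : Fin 5) + 1 = 1 from rfl, show (1 : Fin 5) + 1 = 2 from rfl,
      show (2 : Fin 5) + 1 = 3 from rfl, show (3 : Fin 5) + 1 = 4 from rfl,
      show (4 : Fin 5) + 1 = 0 from rfl]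
    abel)
  -- the orbit generates
  set A := AddSubgroup.closure (Set.range X) with hA
  have hAtop : A = ⊤ := by
    refine AddSubgroup.eq_top_of_card_eq A ?_
    have hAσ : ∀ a ∈ A, σ a ∈ A := by
      intro a ha
      have hle : A ≤ A.comap (AddMonoidHom.mk' σ hadd) := by
        rw [hA, AddSubgroup.closure_le]
        rintro _ ⟨i, rfl⟩
        exact AddSubgroup.subset_closure ⟨i + 1, (hXs i).symm⟩
      exact hle ha
    have hm := card_modEq_fixed (by norm_num : Nat.Prime 5) hσ A hAσ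
    have h1 : Nat.card {a : ↥A // σ a = a} = 1 := by
      rw [Nat.card_eq_one_iff_unique]
      exact ⟨⟨fun a b => Subtype.ext (Subtype.ext ((hfix _ a.2).trans (hfix _ b.2).symm))⟩,
        ⟨⟨0, by simpa using h0⟩⟩⟩
    rw [h1] at hm
    obtain ⟨n, hn⟩ := card_two_pow (W := ↥A) (fun a => Subtype.ext (hW a))
    have hn4 : n ≤ 4 := (Nat.pow_le_pow_iff_right (show 1 < 2 by norm_num)).mp (by
      rw [← hn, show 2 ^ 4 = Nat.card W by rw [hc]; norm_num]
      exact Nat.card_le_card_of_injective _ Subtype.coe_injective)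
    have hn1 : 1 < 2 ^ n := by
      rw [← hn]
      haveI : Nontrivial ↥A := ⟨⟨0, A.zero_mem⟩, ⟨X 0, AddSubgroup.subset_closure ⟨0, rfl⟩⟩,
        fun e => hx (congrArg Subtype.val e).symm⟩
      exact Finite.one_lt_card
    rw [hn, hc]
    rw [hn] at hm
    have key : ∀ n < 5, 1 < 2 ^ n → 2 ^ n % 5 = 1 % 5 → 2 ^ n = 16 := by decide
    exact key n (by omega) hn1 hm
  -- every element is zero, in the orbit, or a sum of two members
  have hspan : ∀ t : W, t = 0 ∨ (∃ i, t = X i) ∨ (∃ i, t = X i + X (i + 1)) ∨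
      ∃ i, t = X i + X (i + 2) := by
    let ψ : (Fin 5 → Bool) → W := fun c => ∑ i, if c i then X i else 0
    have hψ : Function.Surjective ψ := by
      intro t
      have ht : t ∈ A := hAtop ▸ AddSubgroup.mem_top t
      induction ht using AddSubgroup.closure_induction with
      | mem a ha =>
        obtain ⟨i, rfl⟩ := ha
        exact ⟨fun j => decide (j = i), by simp [ψ]⟩
      | zero => exact ⟨fun _ => false, by simp [ψ]⟩
      | add a b _ _ iha ihb =>
        obtain ⟨c, rfl⟩ := iha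
        obtain ⟨d, rfl⟩ := ihb
        refine ⟨fun i => xor (c i) (d i), ?_⟩
        show _ = ψ c + ψ d
        simp only [ψ, ← Finset.sum_add_distrib]
        refine Finset.sum_congr rfl fun i _ => ?_
        rcases Bool.eq_false_or_eq_true (c i) with h | h <;>
          rcases Bool.eq_false_or_eq_true (d i) with h' | h' <;> simp [h, h', hW]
      | neg a _ iha => rw [hneg]; exact iha
    intro t
    obtain ⟨c, rfl⟩ := hψ t
    have key : ∀ c : Fin 5 → Bool, (∀ i, c i = false) ∨ (∀ i, c i = true) ∨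
        ∃ i : Fin 5, (∀ j, c j = decide (j = i)) ∨ (∀ j, c j = !decide (j = i)) ∨
        (∀ j, c j = (decide (j = i) || decide (j = i + 1))) ∨
        (∀ j, c j = (decide (j = i) || decide (j = i + 2))) ∨
        (∀ j, c j = !(decide (j = i) || decide (j = i + 1))) ∨
        (∀ j, c j = !(decide (j = i) || decide (j = i + 2))) := by decide
    have hall : ∑ i, X i = 0 := by rw [Fin.sum_univ_five]; exact hsum
    have hnot : ∀ d : Fin 5 → Bool, ψ (fun j => !d j) = ψ d := by
      intro d
      have : ψ (fun j => !d j) + ψ d = 0 := by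
        simp only [ψ, ← Finset.sum_add_distrib]
        refine (Finset.sum_congr rfl fun i _ => ?_).trans hall
        rcases Bool.eq_false_or_eq_true (d i) with h | h <;> simp [h]
      exact (eq_neg_of_add_eq_zero_left this).trans (hneg _)
    have hone : ∀ i, ψ (fun j => decide (j = i)) = X i := fun i => by simp [ψ]
    have htwo : ∀ i k : Fin 5, i ≠ k → ψ (fun j => decide (j = i) || decide (j = k)) = X i + X k := by
      intro i k hik
      rw [← hone i, ← hone k]
      simp only [ψ, ← Finset.sum_add_distrib]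
      refine Finset.sum_congr rfl fun j _ => ?_
      by_cases h1 : j = i
      · subst h1
        simp [hik]
      · simp [h1]
    have hi1 : ∀ i : Fin 5, i ≠ i + 1 ∧ i ≠ i + 2 := by decide
    rcases key c with h | h | ⟨i, h | h | h | h | h | h⟩
    · left; simp [ψ, h]
    · left; simp [ψ, h, hall]
    all_goals rw [show c = _ from funext h]
    · exact Or.inr (Or.inl ⟨i, hone i⟩)
    · exact Or.inr (Or.inl ⟨i, (hnot _).trans (hone i)⟩)
    · exact Or.inr (Or.inr (Or.inl ⟨i, htwo _ _ (hi1 i).1⟩))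
    · exact Or.inr (Or.inr (Or.inr ⟨i, htwo _ _ (hi1 i).2⟩))
    · exact Or.inr (Or.inr (Or.inl ⟨i, (hnot _).trans (htwo _ _ (hi1 i).1)⟩))
    · exact Or.inr (Or.inr (Or.inr ⟨i, (hnot _).trans (htwo _ _ (hi1 i).2)⟩))
  -- the values on the three orbits
  have hshift : ∀ (k i : Fin 5), q (X i + X (i + k)) = q (X 0 + X k) := by
    intro k i
    induction i using Fin.induction with
    | zero => rw [zero_add]
    | succ i ih =>
      have e1 : i.succ = i.castSucc + 1 := (Fin.coeSucc_eq_succ).symm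
      rw [e1, show i.castSucc + 1 + k = i.castSucc + k + 1 by abel, ← hXs, ← hXs, ← hadd, hσq, ih]
  have hqX : ∀ i, q (X i) = q x := by
    have hqpow : ∀ (n : ℕ), q ((σ ^ n) x) = q x := fun n => by
      induction n with
      | zero => rfl
      | succ n ih => rw [pow_succ', Equiv.Perm.mul_apply, hσq, ih]
    exact fun i => hqpow _
  set a := q x with ha
  set β := q (X 0 + X 1) with hβ
  set γ := q (X 0 + X 2) with hγ
  have hpos : ∀ k : Fin 5, k ≠ 0 → q (X 0 + X k) ≠ 0 := fun k hk e => hk (hXinj (by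
    have := hq0 _ e
    rw [add_eq_zero_iff_eq_neg, hneg] at this
    exact this.symm))
  have hdist : a ≠ β ∧ a ≠ γ ∧ β ≠ γ := by
    have key : ∀ a b c : ZMod 2 × ZMod 2, a ≠ 0 → b ≠ 0 → c ≠ 0 → ¬ (a ≠ b ∧ a ≠ c ∧ b ≠ c) →
        (a.1 = 1 ∧ b.1 = 1 ∧ c.1 = 1) ∨ (a.2 = 1 ∧ b.2 = 1 ∧ c.2 = 1) ∨
          (a.1 + a.2 = 1 ∧ b.1 + b.2 = 1 ∧ c.1 + c.2 = 1) := by decide
    by_contra hcon
    obtain ⟨l, hla, hlb, hlc⟩ : ∃ l : ZMod 2 × ZMod 2 →+ ZMod 2, l a = 1 ∧ l β = 1 ∧ l γ = 1 := by
      rcases key a β γ (fun e => hx (hq0 x e)) (hpos 1 (by decide)) (hpos 2 (by decide)) hcon with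
        h | h | h
      · exact ⟨AddMonoidHom.fst _ _, h⟩
      · exact ⟨AddMonoidHom.snd _ _, h⟩
      · exact ⟨AddMonoidHom.fst _ _ + AddMonoidHom.snd _ _, h⟩
    have := card_le_four hW (f := fun w => l (q w)) (hq.comp l) fun w hw => by
      rcases hspan w with h | ⟨i, rfl⟩ | ⟨i, rfl⟩ | ⟨i, rfl⟩
      · exact absurd h hw
      · exact (congrArg l (hqX i)).trans hla
      · exact (congrArg l (hshift 1 i)).trans hlb
      · exact (congrArg l (hshift 2 i)).trans hlc
    omega
  have hwhich : ∀ t, q t = a → ∃ i, t = X i := by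
    intro t ht
    rcases hspan t with h | h | ⟨i, rfl⟩ | ⟨i, rfl⟩
    · rw [h, hq.1] at ht
      exact absurd (hq0 x ht.symm) hx
    · exact h
    · exact absurd ((hshift 1 i).symm.trans ht).symm hdist.1
    · exact absurd ((hshift 2 i).symm.trans ht).symm hdist.2.1
  have hnb : ∀ i j : Fin 5, i ≠ j → q (X i + X j) = β → j = i + 1 ∨ j = i + 4 := by
    intro i j hij he
    have hk : ∀ i j : Fin 5, i ≠ j → j = i + 1 ∨ j = i + 4 ∨ j = i + 2 ∨ i = j + 2 := by decide
    rcases hk i j hij with h | h | h | h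
    · exact Or.inl h
    · exact Or.inr h
    · rw [h, hshift 2 i] at he; exact absurd he.symm hdist.2.2
    · rw [h, add_comm, hshift 2 j] at he; exact absurd he.symm hdist.2.2
  have himg : ∀ g : ↥L, ∀ i, ∃ j, (g : Equiv.Perm W) (X i) = X j := fun g i =>
    hwhich _ (by rw [hLq _ g.2, hqX])
  choose π hπ using himg
  let e : ↥L → Fin 5 × Fin 5 := fun g => (π g 0, π g 1)
  have he : Function.Injective e := by
    intro g g' hgg
    obtain ⟨h0', h1'⟩ := Prod.ext_iff.mp hgg
    have hπinj : ∀ g : ↥L, Function.Injective (π g) := fun g i j hij =>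
      hXinj ((g : Equiv.Perm W).injective (by rw [hπ, hπ, hij]))
    have hadj : ∀ (g : ↥L) (i : Fin 5), π g (i + 1) = π g i + 1 ∨ π g (i + 1) = π g i + 4 := by
      intro g i
      refine hnb _ _ (fun h => ?_) ?_
      · exact (show ∀ i : Fin 5, i ≠ i + 1 by decide) i (hπinj g h)
      · rw [← hπ, ← hπ, ← hLadd _ g.2, hLq _ g.2, hshift 1 i]
    have hnext : ∀ i : Fin 5, π g i = π g' i → π g (i + 1) = π g' (i + 1) →
        π g (i + 2) = π g' (i + 2) := by
      intro i e0 e1
      have hne2 : ∀ i : Fin 5, i + 2 ≠ i := by decide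
      have n1 : π g (i + 2) ≠ π g i := fun h => hne2 i (hπinj g h)
      have n2 : π g' (i + 2) ≠ π g' i := fun h => hne2 i (hπinj g' h)
      have k0 := hadj g i
      have k1 := hadj g (i + 1)
      have k2 := hadj g' (i + 1)
      have hi2 : ∀ i : Fin 5, i + 1 + 1 = i + 2 := by decide
      rw [hi2] at k1 k2
      rw [← e1] at k2
      rw [← e0] at n2
      have key : ∀ a b c c' : Fin 5, (b = a + 1 ∨ b = a + 4) → (c = b + 1 ∨ c = b + 4) →
          (c' = b + 1 ∨ c' = b + 4) → c ≠ a → c' ≠ a → c = c' := by decide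
      exact key _ _ _ _ k0 k1 k2 n1 n2
    have h2' := hnext 0 h0' h1'
    have h3' := hnext 1 h1' h2'
    have h4' := hnext 2 h2' h3'
    have hall : ∀ i, π g i = π g' i := fun i => by
      fin_cases i
      · exact h0'
      · exact h1'
      · exact h2'
      · exact h3'
      · exact h4'
    have hX' : ∀ i, (g : Equiv.Perm W) (X i) = (g' : Equiv.Perm W) (X i) := fun i => by
      rw [hπ, hπ, hall]
    refine Subtype.ext (Equiv.ext fun t => ?_)
    rcases hspan t with rfl | ⟨i, rfl⟩ | ⟨i, rfl⟩ | ⟨i, rfl⟩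
    · have z : ∀ g ∈ L, g 0 = 0 := fun g hg => by
        have := hLadd g hg 0 0
        rw [add_zero] at this
        exact left_eq_add.mp this
      rw [z _ g.2, z _ g'.2]
    · exact hX' i
    · rw [hLadd _ g.2, hLadd _ g'.2, hX', hX']
    · rw [hLadd _ g.2, hLadd _ g'.2, hX', hX']
  have := Nat.card_le_card_of_injective e he
  rwa [Nat.card_prod, Nat.card_fin] at this

/-- The isometry group is solvable. -/
theorem isometries_isSolvable (L : Subgroup (Equiv.Perm W))
    (hLadd : ∀ g ∈ L, ∀ x y, g (x + y) = g x + g y) (hLq : ∀ g ∈ L, ∀ x, q (g x) = q x) :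
    Group.IsSolvable L := by
  classical
  have h16 := card_le_sixteen hW hq hq0
  have hprime : ∀ s : ℕ, s.Prime → s ∣ Nat.card L → s = 2 ∨ s = 3 ∨
      (s = 5 ∧ Nat.card L ≤ 25) := by
    intro s hs hd
    haveI := Fact.mk hs
    obtain ⟨g, hg⟩ := exists_prime_orderOf_dvd_card' s hd
    set σ : Equiv.Perm W := (g : Equiv.Perm W) with hσdef
    have hσ : σ ^ s = 1 := by
      rw [hσdef, ← Subgroup.coe_pow, ← hg, pow_orderOf_eq_one, Subgroup.coe_one]
    have hadd := hLadd σ g.2
    let F : AddSubgroup W := (AddMonoidHom.mk' σ hadd).eqLocus (AddMonoidHom.id W)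
    have hFc : Nat.card {a : W // σ a = a} = Nat.card F :=
      Nat.card_congr (Equiv.subtypeEquivRight fun a => Iff.rfl)
    obtain ⟨n, hn⟩ := card_two_pow hW
    obtain ⟨i, hi⟩ := card_two_pow (W := ↥F) (fun a => Subtype.ext (hW a))
    have hin : i < n := by
      refine (Nat.pow_lt_pow_iff_right (by norm_num : 1 < 2)).mp ?_
      rw [← hn, ← hi]
      refine lt_of_le_of_ne (Nat.card_le_card_of_injective _ Subtype.coe_injective) fun e => ?_
      have htop : F = ⊤ := AddSubgroup.eq_top_of_card_eq F e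
      have hg1 : g = 1 := Subtype.ext (Equiv.ext fun a => (htop ▸ AddSubgroup.mem_top a : a ∈ F))
      rw [hg1, orderOf_one] at hg
      exact hs.one_lt.ne hg
    have hm := card_modEq_fixed hs hσ ⊤ (fun a _ => AddSubgroup.mem_top _)
    have e1 : Nat.card (⊤ : AddSubgroup W) = 2 ^ n :=
      (Nat.card_congr AddSubgroup.topEquiv.toEquiv).trans hn
    have e2 : Nat.card {a : ↥(⊤ : AddSubgroup W) // σ a = a} = 2 ^ i := by
      rw [← hi, ← hFc]
      exact Nat.card_congr (Equiv.subtypeEquiv AddSubgroup.topEquiv.toEquiv fun a => Iff.rfl)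
    rw [e1, e2] at hm
    have hd' : s ∣ 2 ^ n - 2 ^ i :=
      (Nat.modEq_iff_dvd' (Nat.pow_le_pow_right (by norm_num) hin.le)).mp hm.symm
    have hn4 : n ≤ 4 := (Nat.pow_le_pow_iff_right (by norm_num)).mp (hn ▸ h16)
    have hpos : 0 < 2 ^ n - 2 ^ i := Nat.sub_pos_of_lt (Nat.pow_lt_pow_right (by norm_num) hin)
    have hcases : s = 2 ∨ s = 3 ∨ (s = 5 ∧ n = 4 ∧ i = 0) ∨
        (s = 7 ∧ ((n = 4 ∧ i = 1) ∨ (n = 3 ∧ i = 0))) := by
      have hle := Nat.le_of_dvd hpos hd'
      have hlt : 2 ^ n - 2 ^ i < 16 := by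
        have h1 : 2 ^ n ≤ 2 ^ 4 := Nat.pow_le_pow_right (by norm_num) hn4
        have h2 : 1 ≤ 2 ^ i := Nat.one_le_two_pow
        omega
      rcases orbit_cases n (by omega) i hin s (by omega) (Nat.mod_eq_zero_of_dvd hd') with
        h | h | h | h | h
      · exact Or.inl h
      · exact Or.inr (Or.inl h)
      · exact Or.inr (Or.inr (Or.inl h))
      · exact Or.inr (Or.inr (Or.inr h))
      simp only [List.mem_cons, List.not_mem_nil, or_false] at h
      rcases h with rfl | rfl | rfl | rfl | rfl | rfl | rfl | rfl | rfl | rfl <;> norm_num at hs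
    rcases hcases with h | h | ⟨h5, hn', hi'⟩ | ⟨h7, hni⟩
    · exact Or.inl h
    · exact Or.inr (Or.inl h)
    · subst h5 hn' hi'
      refine Or.inr (Or.inr ⟨rfl, card_le_of_five hW hq hq0 hadd (hLq σ g.2) hσ hn ?_ L hLadd hLq⟩)
      intro a ha
      haveI : Subsingleton F := (Nat.card_eq_one_iff_unique.mp (hi.trans (by norm_num))).1
      exact congrArg Subtype.val (Subsingleton.elim (⟨a, ha⟩ : F) ⟨0, F.zero_mem⟩)
    · subst h7
      exfalso
      refine no_seven hW hq hq0 hadd (hLq σ g.2) hσ ?_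
      rcases hni with ⟨rfl, rfl⟩ | ⟨rfl, rfl⟩
      · exact Or.inl ⟨hn, hFc.trans hi⟩
      · exact Or.inr ⟨hn, hFc.trans hi⟩
  by_cases h5 : 5 ∣ Nat.card L
  · rcases hprime 5 (by norm_num) h5 with h | h | h
    · omega
    · omega
    · exact AEightSub.isSolvable_of_card_lt (by omega)
  · refine FourOrbit.isSolvable_of_two_primes Nat.prime_two Nat.prime_three (by norm_num) ?_
    intro s hs hd
    rcases hprime s hs hd with h | h | ⟨h, -⟩
    · exact Or.inl h
    · exact Or.inr h
    · exact absurd (h ▸ hd) h5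

end CfsgLib.ThreeInvolutions
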