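import Cfsg.Agent.Lib.ThreeInvolutions.Isometry
import Cfsg.Agent.Lib.Critical.Detect

/-!
The automorphism group of a `2`-group with exactly three involutions is solvable.
-/

set_option autoImplicit false
set_option linter.style.haveILetI false
set_option linter.unusedSectionVars false

open scoped commutatorElement

namespace CfsgLib.ThreeInvolutions

theorem eq_of_add_eq_zero {m n : ZMod 2 × ZMod 2} : m + n = 0 → m = n := by revert m n; decide

theorem add_self_pair (m : ZMod 2 × ZMod 2) : m + m = 0 := by revert m; decide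

variable {X : Type*} [Group X] [Finite X]

theorem solvable_of_ker_range {G H : Type*} [Group G] [Group H] (f : G →* H)
    (h1 : Group.IsSolvable f.ker) (h2 : Group.IsSolvable f.range) : Group.IsSolvable G := by
  haveI := h1
  haveI : Group.IsSolvable (G ⧸ f.ker) :=
    Group.isSolvable_of_surjective
      (f := (QuotientGroup.quotientKerEquivRange f).symm.toMonoidHom)
      (QuotientGroup.quotientKerEquivRange f).symm.surjective
  exact (Group.isSolvable_iff_subgroup_quotient f.ker).mpr ⟨inferInstance, inferInstance⟩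

/-- The involutions of such a group form a four group. -/
theorem exists_four (h2 : IsPGroup 2 X) (h3 : Nat.card {x : X // orderOf x = 2} = 3) :
    ∃ V : Subgroup X, IsKleinFour ↥V ∧ (∀ x : X, x * x = 1 → x ∈ V) ∧
      (∀ α : MulAut X, ∀ v ∈ V, α v ∈ V) ∧ (∀ x : X, x ∈ V → x * x = 1) ∧
      ∃ z, orderOf z = 2 ∧ z ∈ Subgroup.center X := by
  classical
  haveI := Fintype.ofFinite X
  haveI : Fact (Nat.Prime 2) := ⟨Nat.prime_two⟩
  set S : Finset X := Finset.univ.filter fun x => orderOf x = 2 with hS
  have hSc : S.card = 3 := by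
    rw [← h3, Nat.card_eq_fintype_card, Fintype.card_subtype]
  have hmem : ∀ x : X, x ∈ S ↔ orderOf x = 2 := fun x => by simp [hS]
  obtain ⟨z, hz, hzc⟩ : ∃ z, orderOf z = 2 ∧ z ∈ Subgroup.center X := by
    haveI : Nontrivial X := by
      obtain ⟨x, hx⟩ := Finset.card_pos.mp (hSc ▸ (by norm_num) : 0 < S.card)
      exact ⟨⟨x, 1, fun e => by rw [hmem, e, orderOf_one] at hx; exact absurd hx (by norm_num)⟩⟩
    have hc := h2.center_nontrivial
    obtain ⟨n, hn⟩ := IsPGroup.iff_card.mp (h2.to_subgroup (Subgroup.center X))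
    have hn0 : n ≠ 0 := fun e => by
      rw [e, pow_zero] at hn
      exact absurd hn (Finite.one_lt_card_iff_nontrivial.mpr hc).ne'
    obtain ⟨c, hc2⟩ := exists_prime_orderOf_dvd_card' 2 (hn ▸ dvd_pow_self 2 hn0)
    exact ⟨c, by rw [Subgroup.orderOf_coe, hc2], c.2⟩
  have hconj : ∀ s t : X, orderOf t = 2 → orderOf (s * t * s⁻¹) = 2 := fun s t ht =>
    ((MulAut.conj s).orderOf_eq t).trans ht
  have hcomm : ∀ s ∈ S, ∀ t ∈ S, Commute s t := by
    intro s hs t ht
    rw [hmem] at hs ht
    by_cases hsz : s = z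
    · exact (hsz ▸ (Subgroup.mem_center_iff.mp hzc t).symm : s * t = t * s)
    by_cases htz : t = z
    · exact (htz ▸ Subgroup.mem_center_iff.mp hzc s : s * t = t * s)
    by_cases hst : s = t
    · exact hst ▸ Commute.refl s
    have huniq : ∀ u ∈ S, u ≠ z → u ≠ s → u = t := by
      intro u hu huz hus
      by_contra hut
      have hsub : ({z, s, t, u} : Finset X) ⊆ S := by
        intro w hw
        simp only [Finset.mem_insert, Finset.mem_singleton] at hw
        rcases hw with rfl | rfl | rfl | rfl
        exacts [(hmem _).mpr hz, (hmem _).mpr hs, (hmem _).mpr ht, hu]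
      have := Finset.card_le_card hsub
      have h4 : ({z, s, t, u} : Finset X).card = 4 := by
        simp [Ne.symm hsz, Ne.symm htz, Ne.symm huz, hst, Ne.symm hus, Ne.symm hut]
      omega
    have h : s * t * s⁻¹ = t := huniq _ ((hmem _).mpr (hconj s t ht))
      (fun e => htz (by
        rw [show t = s⁻¹ * (s * t * s⁻¹) * s by group, e, mul_assoc,
          ← Subgroup.mem_center_iff.mp hzc s, inv_mul_cancel_left]))
      (fun e => hst (mul_left_cancel (mul_inv_eq_iff_eq_mul.mp e)).symm)
    exact (mul_inv_eq_iff_eq_mul.mp h : s * t = t * s)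
  have hsq : ∀ x : X, x * x = 1 ↔ x = 1 ∨ x ∈ S := fun x => by
    rw [hmem]
    constructor
    · intro h
      by_cases h1 : x = 1
      · exact Or.inl h1
      · exact Or.inr (orderOf_eq_prime (by rw [pow_two]; exact h) h1)
    · rintro (rfl | h)
      · exact mul_one 1
      · rw [← pow_two, ← h, pow_orderOf_eq_one]
  have hcomm' : ∀ x y : X, x * x = 1 → y * y = 1 → Commute x y := fun x y hx hy => by
    rcases (hsq x).mp hx with rfl | hx
    · exact Commute.one_left y
    rcases (hsq y).mp hy with rfl | hy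
    · exact Commute.one_right x
    exact hcomm x hx y hy
  let V : Subgroup X :=
    { carrier := {x | x * x = 1}
      one_mem' := mul_one 1
      mul_mem' := fun {a b} ha hb => by
        show a * b * (a * b) = 1
        rw [(hcomm' b a hb ha).mul_mul_mul_comm, (ha : a * a = 1), (hb : b * b = 1), mul_one]
      inv_mem' := fun {a} ha => by
        show a⁻¹ * a⁻¹ = 1
        rw [← mul_inv_rev, (ha : a * a = 1), inv_one] }
  have hV4 : Nat.card ↥V = 4 := by
    have he : Finset.univ.filter (fun x : X => x ∈ V) = insert 1 S := by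
      ext x
      simp only [Finset.mem_filter, Finset.mem_univ, true_and, Finset.mem_insert]
      exact hsq x
    rw [Nat.card_eq_fintype_card, Fintype.card_subtype, he,
      Finset.card_insert_of_notMem (by rw [hmem, orderOf_one]; norm_num), hSc]
  haveI : Nontrivial ↥V := Finite.one_lt_card_iff_nontrivial.mp (by omega)
  refine ⟨V, ⟨hV4, ?_⟩, fun x hx => hx, fun α v hv => ?_, fun x hx => hx, z, hz, hzc⟩
  · refine Monoid.exponent_eq_prime_iff Nat.prime_two |>.mpr fun g hg => ?_
    exact orderOf_eq_prime (Subtype.ext (by rw [Subgroup.coe_pow, pow_two]; exact g.2)) hg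
  · show α v * α v = 1
    rw [← map_mul, (hv : v * v = 1), map_one]

/-- The automorphism group is solvable. -/
theorem aut_isSolvable (h2 : IsPGroup 2 X) (h3 : Nat.card {x : X // orderOf x = 2} = 3) :
    Group.IsSolvable (MulAut X) := by
  classical
  haveI : Fact (Nat.Prime 2) := ⟨Nat.prime_two⟩
  haveI : Finite (MulAut X) := Finite.of_injective _ MulEquiv.toEquiv_injective
  obtain ⟨V, hV, hVall, hVinv, hVsq, z, hz, hzc⟩ := exists_four h2 h3
  haveI := hV
  -- the centraliser of the four group
  set N := Subgroup.centralizer (V : Set X) with hN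
  have hNinv : Critical.Detect.Inv (⊤ : Subgroup (MulAut X)) N := by
    intro α _ x hx
    refine Subgroup.mem_centralizer_iff.mpr fun v hv => ?_
    have h := congrArg α (Subgroup.mem_centralizer_iff.mp hx (α⁻¹ v) (hVinv _ v hv))
    rwa [map_mul, map_mul, MulAut.apply_inv_self] at h
  -- at most one nontrivial permutation of the involutions is induced
  have hswap : ∀ x y : X, x ∉ N → y ∉ N → x⁻¹ * y ∈ N := by
    have hfour : ∀ v : ↥V, ∀ x : X, v.1 ≠ 1 → v.1 ≠ z → x * v.1 * x⁻¹ ≠ v.1 →
        x * v.1 * x⁻¹ = v.1 * z := by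
      intro v x hv1 hvz hne
      have hvinv : x * v.1 * x⁻¹ ∈ V := hVinv (MulAut.conj x) v.1 v.2
      have hzV : z ∈ V := hVall z (by rw [← pow_two, ← hz, pow_orderOf_eq_one])
      by_contra hne2
      haveI := Fintype.ofFinite ↥V
      have hvz' : v.1 * z ∉ ({1, z, v.1} : Finset X) := by
        simp only [Finset.mem_insert, Finset.mem_singleton, not_or]
        refine ⟨fun e => hvz ?_, fun e => hv1 (mul_eq_right.mp e), fun e => ?_⟩
        · rw [mul_eq_one_iff_eq_inv.mp e]
          exact inv_eq_of_mul_eq_one_left (hVsq z hzV)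
        · rw [mul_eq_left.mp e, orderOf_one] at hz
          exact absurd hz (by norm_num)
      have hsub : ({x * v.1 * x⁻¹, v.1 * z, 1, z, v.1} : Finset X) ⊆
          (Finset.univ : Finset ↥V).map (Function.Embedding.subtype _) := by
        intro w hw
        simp only [Finset.mem_map, Finset.mem_univ, true_and, Function.Embedding.coe_subtype]
        simp only [Finset.mem_insert, Finset.mem_singleton] at hw
        refine ⟨⟨w, ?_⟩, rfl⟩
        rcases hw with rfl | rfl | rfl | rfl | rfl
        exacts [hvinv, V.mul_mem v.2 hzV, V.one_mem, hzV, v.2]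
      have hc := Finset.card_le_card hsub
      rw [Finset.card_map, Finset.card_univ, ← Nat.card_eq_fintype_card, IsKleinFour.card_four] at hc
      have h1 : x * v.1 * x⁻¹ ∉ ({v.1 * z, 1, z, v.1} : Finset X) := by
        simp only [Finset.mem_insert, Finset.mem_singleton, not_or]
        refine ⟨hne2, fun e => hv1 (conj_eq_one_iff.mp e), fun e => hvz ?_, hne⟩
        rw [show v.1 = x⁻¹ * (x * v.1 * x⁻¹) * x by group, e, mul_assoc,
          ← Subgroup.mem_center_iff.mp hzc x, inv_mul_cancel_left]
      rw [Finset.card_insert_of_notMem h1, Finset.card_insert_of_notMem hvz'] at hc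
      have h3' : ({1, z, v.1} : Finset X).card = 3 := by
        have hz1 : z ≠ 1 := fun e => by rw [e, orderOf_one] at hz; norm_num at hz
        simp [hz1.symm, Ne.symm hv1, Ne.symm hvz]
      omega
    intro x y hx hy
    refine Subgroup.mem_centralizer_iff.mpr fun v hv => ?_
    by_cases hv1 : v = 1
    · rw [hv1, one_mul, mul_one]
    by_cases hvz : v = z
    · rw [hvz]; exact (Subgroup.mem_center_iff.mp hzc _).symm
    have hmove : ∀ g : X, g ∉ N → g * v * g⁻¹ ≠ v := by
      intro g hg e
      refine hg (Subgroup.mem_centralizer_iff.mpr fun w hw => ?_)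
      by_cases hw1 : w = 1
      · rw [hw1, one_mul, mul_one]
      by_cases hwz : w = z
      · rw [hwz]; exact (Subgroup.mem_center_iff.mp hzc _).symm
      by_cases hwv : g * w * g⁻¹ = w
      · exact (mul_inv_eq_iff_eq_mul.mp hwv).symm
      -- the other involution
      have hgv : g * v = v * g := mul_inv_eq_iff_eq_mul.mp e
      by_cases hwv' : w = v
      · rw [hwv']; exact hgv.symm
      exfalso
      have hw2 := hfour ⟨w, hw⟩ g hw1 hwz hwv
      have hwvz : w = v * z := by
        haveI := Fintype.ofFinite ↥V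
        have hzV : z ∈ V := hVall z (by rw [← pow_two, ← hz, pow_orderOf_eq_one])
        by_contra hne
        have hsub : ({w, v * z, 1, z, v} : Finset X) ⊆
            (Finset.univ : Finset ↥V).map (Function.Embedding.subtype _) := by
          intro u hu
          simp only [Finset.mem_map, Finset.mem_univ, true_and, Function.Embedding.coe_subtype]
          simp only [Finset.mem_insert, Finset.mem_singleton] at hu
          refine ⟨⟨u, ?_⟩, rfl⟩
          rcases hu with rfl | rfl | rfl | rfl | rfl
          exacts [hw, V.mul_mem hv hzV, V.one_mem, hzV, hv]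
        have hc := Finset.card_le_card hsub
        rw [Finset.card_map, Finset.card_univ, ← Nat.card_eq_fintype_card,
          IsKleinFour.card_four] at hc
        have h1 : w ∉ ({v * z, 1, z, v} : Finset X) := by
          simp only [Finset.mem_insert, Finset.mem_singleton, not_or]
          exact ⟨hne, hw1, hwz, hwv'⟩
        have hz1 : z ≠ 1 := fun e => by rw [e, orderOf_one] at hz; norm_num at hz
        have h2' : v * z ∉ ({1, z, v} : Finset X) := by
          simp only [Finset.mem_insert, Finset.mem_singleton, not_or]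
          exact ⟨fun e => hvz (by rw [mul_eq_one_iff_eq_inv.mp e,
              inv_eq_of_mul_eq_one_left (hVsq z hzV)]),
            fun e => hv1 (mul_eq_right.mp e), fun e => hz1 (mul_eq_left.mp e)⟩
        rw [Finset.card_insert_of_notMem h1, Finset.card_insert_of_notMem h2'] at hc
        simp [hz1.symm, Ne.symm hv1, Ne.symm hvz] at hc
      apply hwv
      rw [hwvz]
      have hgz : g * z = z * g := Subgroup.mem_center_iff.mp hzc g
      calc g * (v * z) * g⁻¹ = (g * v) * z * g⁻¹ := by group
        _ = v * (g * z) * g⁻¹ := by rw [hgv]; group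
        _ = v * z := by rw [hgz]; group
    have ex := hfour ⟨v, hv⟩ x hv1 hvz (hmove x hx)
    have ey := hfour ⟨v, hv⟩ y hv1 hvz (hmove y hy)
    have e : x⁻¹ * y * v * (x⁻¹ * y)⁻¹ = v := by
      calc x⁻¹ * y * v * (x⁻¹ * y)⁻¹ = x⁻¹ * (y * v * y⁻¹) * x := by group
        _ = x⁻¹ * (x * v * x⁻¹) * x := by rw [ey, ex]
        _ = v := by group
    exact (mul_inv_eq_iff_eq_mul.mp e).symm
  have hfix : ∀ α ∈ (⊤ : Subgroup (MulAut X)), (orderOf α).Coprime 2 →
      ∀ x : X, x⁻¹ * α x ∈ N := by
    intro α hα _ x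
    by_cases hx : x ∈ N
    · exact N.mul_mem (N.inv_mem hx) (hNinv α hα x hx)
    · refine hswap x (α x) hx fun h => hx ?_
      have := hNinv α⁻¹ trivial _ h
      rwa [MulAut.inv_apply_self] at this
  obtain ⟨D, hDinv, hDN, hDexp, hDc, hDdet⟩ :=
    Critical.Detect.exists_detecting (G := (⊤ : Subgroup (MulAut X))) h2 (fun g => trivial) hNinv hfix
  set Vd : Subgroup ↥D := V.subgroupOf D with hVd
  have hVcent : ∀ v ∈ V, ∀ d ∈ D, v * d = d * v := fun v hv d hd =>
    Subgroup.mem_centralizer_iff.mp (hDN hd) v hv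
  have hsqV : ∀ d : ↥D, (d : X) * d ∈ V := fun d => hVall _ (by
    have := hDexp d d.2
    rw [show Critical.Detect.expo 2 = 4 from rfl, pow_succ, pow_succ, pow_two] at this
    rw [← this]; simp only [mul_assoc])
  have hcc : ∀ d e : ↥D, ∀ f : ↥D, Commute (⁅(d : X), (e : X)⁆) (f : X) := fun d e f =>
    ((hDc (Subgroup.commutator_mem_commutator d.2 (Subgroup.mem_top _))).2 f f.2).symm
  have hcV : ∀ d e : ↥D, ⁅(d : X), (e : X)⁆ ∈ V := by
    intro d e
    refine hVall _ ?_
    have h1 : (d : X) * d * e = e * (d * d) := hVcent _ (hsqV d) e e.2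
    have hc := (hcc d e d).eq
    calc ⁅(d : X), (e : X)⁆ * ⁅(d : X), (e : X)⁆
        = ⁅(d : X), (e : X)⁆ * d * (d : X)⁻¹ * ⁅(d : X), (e : X)⁆ := by group
      _ = d * ⁅(d : X), (e : X)⁆ * (d : X)⁻¹ * ⁅(d : X), (e : X)⁆ := by rw [hc]
      _ = (d * d * e) * ((d : X) * d)⁻¹ * (e : X)⁻¹ := by rw [commutatorElement_def]; group
      _ = 1 := by rw [h1]; group
  haveI hVdn : Vd.Normal := ⟨fun n hn g => Subgroup.mem_subgroupOf.mpr (by
    show (g : X) * n * (g : X)⁻¹ ∈ V
    rw [← hVcent _ (Subgroup.mem_subgroupOf.mp hn) g g.2, mul_inv_cancel_right]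
    exact Subgroup.mem_subgroupOf.mp hn)⟩
  have hWab : ∀ a b : ↥D ⧸ Vd, a * b = b * a := by
    intro a b
    induction a using QuotientGroup.induction_on
    induction b using QuotientGroup.induction_on
    rename_i d e
    rw [← commutatorElement_eq_one_iff_mul_comm]
    show ((⁅d, e⁆ : ↥D) : ↥D ⧸ Vd) = 1
    exact (QuotientGroup.eq_one_iff _).mpr (Subgroup.mem_subgroupOf.mpr (hcV d e))
  letI : CommGroup (↥D ⧸ Vd) := { (inferInstance : Group (↥D ⧸ Vd)) with mul_comm := hWab }
  obtain ⟨eV⟩ : Nonempty (↥V ≃* Multiplicative (ZMod 2 × ZMod 2)) := IsKleinFour.nonempty_mulEquiv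
  let ev : ↥V → ZMod 2 × ZMod 2 := fun v => Multiplicative.toAdd (eV v)
  have hev : ∀ v w : ↥V, ev (v * w) = ev v + ev w := fun v w => by
    show Multiplicative.toAdd (eV (v * w)) = _
    rw [map_mul]; rfl
  let sq : ↥D → ZMod 2 × ZMod 2 := fun d => ev ⟨(d : X) * d, hsqV d⟩
  have hwd : ∀ d v : ↥D, v ∈ Vd → sq (d * v) = sq d := by
    intro d v hv
    refine congrArg ev (Subtype.ext ?_)
    have hc := hVcent _ (Subgroup.mem_subgroupOf.mp hv) d d.2
    show (d : X) * v * (d * v) = d * d
    calc (d : X) * v * (d * v) = d * (v * d) * v := by group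
      _ = d * d * (v * v) := by rw [hc]; group
      _ = d * d := by rw [hVsq _ (Subgroup.mem_subgroupOf.mp hv), mul_one]
  let qm : ↥D ⧸ Vd → ZMod 2 × ZMod 2 := Quotient.lift sq fun a b hab => by
    have h := QuotientGroup.leftRel_apply.mp hab
    rw [show b = a * (a⁻¹ * b) by group]
    exact (hwd a _ h).symm
  let q : Additive (↥D ⧸ Vd) → ZMod 2 × ZMod 2 := fun w => qm (Additive.toMul w)
  let bf : ↥D → ↥D → ZMod 2 × ZMod 2 := fun d e => ev ⟨⁅(d : X), (e : X)⁆, hcV d e⟩
  have hbf : ∀ d e f : ↥D, bf (d * e) f = bf d f + bf e f := by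
    intro d e f
    rw [← hev]
    refine congrArg ev (Subtype.ext ?_)
    show ⁅(d : X) * e, (f : X)⁆ = ⁅(d : X), (f : X)⁆ * ⁅(e : X), (f : X)⁆
    calc ⁅(d : X) * e, (f : X)⁆ = d * ⁅(e : X), (f : X)⁆ * (d : X)⁻¹ * ⁅(d : X), (f : X)⁆ := by
          simp only [commutatorElement_def]; group
      _ = ⁅(e : X), (f : X)⁆ * ⁅(d : X), (f : X)⁆ := by
          rw [← (hcc e f d).eq, mul_inv_cancel_right]
      _ = _ := hVcent _ (hcV e f) _ (by
          exact D.mul_mem (D.mul_mem (D.mul_mem d.2 f.2) (D.inv_mem d.2)) (D.inv_mem f.2))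
  have hinvd : ∀ d e : ↥D, bf d⁻¹ e = bf d e := fun d e => by
    have h := hbf d⁻¹ d e
    rw [inv_mul_cancel] at h
    have h0 : bf 1 e = 0 := by
      have := hbf 1 1 e
      rw [mul_one] at this
      exact left_eq_add.mp this
    rw [h0] at h
    exact eq_of_add_eq_zero h.symm
  have hsqmul : ∀ d e : ↥D, sq (d * e) = sq d + sq e + bf e d := by
    intro d e
    rw [← hinvd e d, ← hev, ← hev]
    refine congrArg ev (Subtype.ext ?_)
    show (d : X) * e * (d * e) = d * d * (e * e) * ⁅((e⁻¹ : ↥D) : X), (d : X)⁆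
    rw [Subgroup.coe_inv]
    have hc : ∀ w : X, w ∈ D → Commute ⁅(e : X)⁻¹, (d : X)⁆ w := fun w hw => hcc e⁻¹ d ⟨w, hw⟩
    rw [mul_assoc ((d : X) * d), ← (hc _ (D.mul_mem e.2 e.2)).eq]
    have h' := hc _ d.2
    calc (d : X) * e * (d * e) = d * (e * d * (e : X)⁻¹ * (d : X)⁻¹) * d * (e * e) := by group
      _ = d * d * (⁅(e : X)⁻¹, (d : X)⁆ * (e * e)) := by
        have h2' : (e : X) * d * (e : X)⁻¹ * (d : X)⁻¹ = ⁅(e : X)⁻¹, (d : X)⁆ := by
          have h3 : bf e d = bf e⁻¹ d := (hinvd e d).symm
          exact congrArg Subtype.val (eV.injective (Multiplicative.toAdd.injective h3))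
        rw [h2', mul_assoc (d : X), h'.eq]; group
  have hq : IsQuad q := by
    refine ⟨?_, fun a b c => ?_⟩
    · show sq 1 = 0
      have : ev 1 = 0 := by
        show Multiplicative.toAdd (eV 1) = 0
        rw [map_one]; rfl
      refine Eq.trans (congrArg ev (Subtype.ext ?_)) this
      exact mul_one 1
    · obtain ⟨a, rfl⟩ := Additive.ofMul.surjective a
      obtain ⟨b, rfl⟩ := Additive.ofMul.surjective b
      obtain ⟨c, rfl⟩ := Additive.ofMul.surjective c
      induction a using QuotientGroup.induction_on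
      induction b using QuotientGroup.induction_on
      induction c using QuotientGroup.induction_on
      rename_i d e f
      show sq (d * e * f) + sq (d * e) + sq (d * f) + sq (e * f) + sq d + sq e + sq f = 0
      have hbf2 : bf f (d * e) = bf f d + bf f e := by
        have hs : ∀ a b : ↥D, bf a b = bf b a := fun a b => by
          have h1 : ev ⟨⁅(a : X), (b : X)⁆, hcV a b⟩ + ev ⟨⁅(b : X), (a : X)⁆, hcV b a⟩ = 0 := by
            rw [← hev]
            have : ev 1 = 0 := by
              show Multiplicative.toAdd (eV 1) = 0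
              rw [map_one]; rfl
            refine Eq.trans (congrArg ev (Subtype.ext ?_)) this
            show ⁅(a : X), (b : X)⁆ * ⁅(b : X), (a : X)⁆ = 1
            rw [← commutatorElement_inv (b : X) (a : X), inv_mul_cancel]
          exact eq_of_add_eq_zero h1
        rw [hs, hbf, hs d f, hs e f]
      rw [hsqmul (d * e) f, hsqmul d e, hsqmul d f, hsqmul e f, hbf2]
      generalize sq d = a
      generalize sq e = b
      generalize sq f = c
      generalize bf e d = x
      generalize bf f d = y
      generalize bf f e = w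
      revert a b c x y w
      intro a b c x y w
      calc _ = (a + a) + (a + a) + (b + b) + (b + b) + (c + c) + (c + c) + (x + x) + (y + y) + (w + w) := by abel
        _ = 0 := by simp only [add_self_pair, add_zero]
  have hW : ∀ w : Additive (↥D ⧸ Vd), w + w = 0 := by
    intro w
    obtain ⟨a, rfl⟩ := Additive.ofMul.surjective w
    induction a using QuotientGroup.induction_on
    rename_i d
    rw [← ofMul_mul, ← ofMul_one]
    exact congrArg Additive.ofMul ((QuotientGroup.eq_one_iff _).mpr
      (Subgroup.mem_subgroupOf.mpr (hsqV d)))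
  have hq0 : ∀ w, q w = 0 → w = 0 := by
    intro w hw
    obtain ⟨a, rfl⟩ := Additive.ofMul.surjective w
    induction a using QuotientGroup.induction_on
    rename_i d
    rw [← ofMul_one]
    refine congrArg Additive.ofMul ((QuotientGroup.eq_one_iff _).mpr
      (Subgroup.mem_subgroupOf.mpr (hVall _ ?_)))
    have h1 : eV ⟨(d : X) * d, hsqV d⟩ = eV 1 := by
      rw [map_one]
      exact Multiplicative.toAdd.injective hw
    exact congrArg Subtype.val (eV.injective h1)
  -- the actions
  let ψ : MulAut X →* Equiv.Perm {v : ↥V // v ≠ 1} :=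
    { toFun := fun α =>
        { toFun := fun v => ⟨⟨α v.1, hVinv α _ v.1.2⟩, fun e => v.2 (Subtype.ext
            (α.injective (by rw [Subgroup.coe_one, map_one]; exact congrArg Subtype.val e)))⟩
          invFun := fun v => ⟨⟨α⁻¹ v.1, hVinv _ _ v.1.2⟩, fun e => v.2 (Subtype.ext
            (α⁻¹.injective (by rw [Subgroup.coe_one, map_one]; exact congrArg Subtype.val e)))⟩
          left_inv := fun v => Subtype.ext (Subtype.ext (MulAut.inv_apply_self _ _ _))
          right_inv := fun v => Subtype.ext (Subtype.ext (MulAut.apply_inv_self _ _ _)) }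
      map_one' := rfl
      map_mul' := fun _ _ => rfl }
  refine solvable_of_ker_range ψ ?_ ?_
  swap
  · refine AEightSub.isSolvable_of_card_lt ?_
    have hc3 : Nat.card {v : ↥V // v ≠ 1} = 3 := by
      haveI := Fintype.ofFinite ↥V
      rw [Nat.card_eq_fintype_card, Fintype.card_subtype_compl, Fintype.card_subtype_eq,
        ← Nat.card_eq_fintype_card, IsKleinFour.card_four]
    have h6 : Nat.card (Equiv.Perm {v : ↥V // v ≠ 1}) = 6 := by
      rw [Nat.card_perm, hc3]; rfl
    have := Nat.card_le_card_of_injective _ (Subtype.coe_injective (p := (· ∈ ψ.range)))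
    rw [h6] at this
    omega
  set K := ψ.ker with hK
  have hKV : ∀ α : ↥K, ∀ v ∈ V, (α : MulAut X) v = v := by
    intro α v hv
    by_cases h1 : v = 1
    · rw [h1, map_one]
    · have := congrArg (fun p : Equiv.Perm {v : ↥V // v ≠ 1} =>
        ((p ⟨⟨v, hv⟩, fun e => h1 (congrArg Subtype.val e)⟩).1 : X)) (MonoidHom.mem_ker.mp α.2)
      exact this
  have hpres : ∀ (α : MulAut X) (d : ↥D), α d ∈ D := fun α d => hDinv α trivial d d.2
  let act : ↥K →* Equiv.Perm (Additive (↥D ⧸ Vd)) :=
    { toFun := fun α =>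
        let f : MulAut X → (↥D →* ↥D) := fun β =>
          { toFun := fun d => ⟨β d, hpres β d⟩
            map_one' := Subtype.ext (map_one β)
            map_mul' := fun a b => Subtype.ext (map_mul β (a : X) b) }
        have hf : ∀ β : MulAut X, Vd ≤ Vd.comap (f β) := fun β v hv =>
          Subgroup.mem_subgroupOf.mpr (hVinv β _ (Subgroup.mem_subgroupOf.mp hv))
        { toFun := fun w => Additive.ofMul (QuotientGroup.map Vd Vd (f α) (hf _) (Additive.toMul w))
          invFun := fun w => Additive.ofMul
            (QuotientGroup.map Vd Vd (f (α : MulAut X)⁻¹) (hf _) (Additive.toMul w))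
          left_inv := fun w => by
            obtain ⟨a, rfl⟩ := Additive.ofMul.surjective w
            induction a using QuotientGroup.induction_on
            exact congrArg (fun d : ↥D => Additive.ofMul (d : ↥D ⧸ Vd))
              (Subtype.ext (MulAut.inv_apply_self _ _ _))
          right_inv := fun w => by
            obtain ⟨a, rfl⟩ := Additive.ofMul.surjective w
            induction a using QuotientGroup.induction_on
            exact congrArg (fun d : ↥D => Additive.ofMul (d : ↥D ⧸ Vd))
              (Subtype.ext (MulAut.apply_inv_self _ _ _)) }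
      map_one' := Equiv.ext fun w => by
        obtain ⟨a, rfl⟩ := Additive.ofMul.surjective w
        induction a using QuotientGroup.induction_on
        rfl
      map_mul' := fun α β => Equiv.ext fun w => by
        obtain ⟨a, rfl⟩ := Additive.ofMul.surjective w
        induction a using QuotientGroup.induction_on
        rfl }
  have hact : ∀ (α : ↥K) (d : ↥D), act α (Additive.ofMul (d : ↥D ⧸ Vd)) =
      Additive.ofMul ((⟨(α : MulAut X) d, hpres _ d⟩ : ↥D) : ↥D ⧸ Vd) := fun α d => rfl
  refine solvable_of_ker_range act ?_ ?_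
  swap
  · refine isometries_isSolvable hW hq hq0 act.range ?_ ?_
    · rintro _ ⟨α, rfl⟩ a b
      obtain ⟨a, rfl⟩ := Additive.ofMul.surjective a
      obtain ⟨b, rfl⟩ := Additive.ofMul.surjective b
      induction a using QuotientGroup.induction_on
      induction b using QuotientGroup.induction_on
      rename_i d e
      rw [← ofMul_mul, ← QuotientGroup.mk_mul, hact, hact, hact, ← ofMul_mul, ← QuotientGroup.mk_mul]
      exact congrArg (fun d : ↥D => Additive.ofMul (d : ↥D ⧸ Vd)) (Subtype.ext (map_mul _ _ _))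
    · rintro _ ⟨α, rfl⟩ a
      obtain ⟨a, rfl⟩ := Additive.ofMul.surjective a
      induction a using QuotientGroup.induction_on
      rename_i d
      rw [hact]
      refine congrArg ev (Subtype.ext ?_)
      show (α : MulAut X) d * (α : MulAut X) d = (d : X) * d
      rw [← map_mul, hKV α _ (hsqV d)]
  -- the automorphisms trivial on `D/(D ∩ V)` and `V`
  let res : ↥act.ker →* MulAut ↥D :=
    { toFun := fun α =>
        { toFun := fun d => ⟨((α : ↥K) : MulAut X) d, hpres _ d⟩
          invFun := fun d => ⟨((α : ↥K) : MulAut X)⁻¹ d, hpres _ d⟩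
          left_inv := fun d => Subtype.ext (MulAut.inv_apply_self _ _ _)
          right_inv := fun d => Subtype.ext (MulAut.apply_inv_self _ _ _)
          map_mul' := fun a b => Subtype.ext (map_mul _ (a : X) b) }
      map_one' := rfl
      map_mul' := fun _ _ => rfl }
  refine solvable_of_ker_range res ?_ ?_
  · -- odd order automorphisms are detected on `D`
    have hp : IsPGroup 2 ↥res.ker := by
      refine IsPGroup.iff_card.mpr ⟨(Nat.card ↥res.ker).primeFactorsList.length, ?_⟩
      refine Nat.eq_prime_pow_of_unique_prime_dvd Nat.card_pos.ne' fun {s} hs hd => ?_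
      by_contra hs2
      haveI := Fact.mk hs
      obtain ⟨g, hg⟩ := exists_prime_orderOf_dvd_card' s hd
      let α : MulAut X := (((g : ↥act.ker) : ↥K) : MulAut X)
      have hord : orderOf α = s := by
        simp only [α, Subgroup.orderOf_coe, hg]
      have h1 : α = 1 := hDdet α trivial (hord ▸ (Nat.coprime_primes hs Nat.prime_two).mpr hs2)
        fun d hd' => congrArg (fun φ : MulAut ↥D => ((φ ⟨d, hd'⟩ : ↥D) : X))
          (MonoidHom.mem_ker.mp g.2)
      rw [h1, orderOf_one] at hord
      exact hs.one_lt.ne hord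
    haveI := hp.isNilpotent
    infer_instance
  · refine Group.isSolvable_of_comm ?_
    rintro ⟨_, α, rfl⟩ ⟨_, β, rfl⟩
    refine Subtype.ext (MulEquiv.ext fun d => Subtype.ext ?_)
    show ((α : ↥K) : MulAut X) (((β : ↥K) : MulAut X) d) =
      ((β : ↥K) : MulAut X) (((α : ↥K) : MulAut X) d)
    have hmv : ∀ γ : ↥act.ker, ∃ v ∈ V, ((γ : ↥K) : MulAut X) d = (d : X) * v := by
      intro γ
      have h := DFunLike.congr_fun (MonoidHom.mem_ker.mp γ.2) (Additive.ofMul (d : ↥D ⧸ Vd))
      rw [hact] at h
      have h' := (QuotientGroup.eq).mp (Additive.ofMul.injective h).symm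
      exact ⟨_, Subgroup.mem_subgroupOf.mp h', (mul_inv_cancel_left _ _).symm⟩
    obtain ⟨v, hv, e1⟩ := hmv α
    obtain ⟨w, hw, e2⟩ := hmv β
    rw [e1, e2, map_mul, map_mul, e1, e2, hKV _ w hw, hKV _ v hv, mul_assoc, mul_assoc]
    haveI := hV
    congr 1
    exact congrArg Subtype.val (mul_comm_of_exponent_two IsKleinFour.exponent_two (⟨v, hv⟩ : ↥V) ⟨w, hw⟩)

end CfsgLib.ThreeInvolutions
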